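import Groth.Agent.Lib.RigFlatH7.CplAway
import Groth.Agent.Lib.RigFlatH7.RigComp
import Groth.Agent.Lib.RigH7.Complete
import Groth.Agent.Lib.FormalH7.CplRing
import Mathlib.RingTheory.AdicCompletion.Functoriality
import Mathlib.RingTheory.IntegralClosure.IsIntegralClosure.Basic

/-! Tools for base change of rig-flat maps: maps out of completed localisations, quotients. -/

set_option autoImplicit false
set_option linter.style.haveILetI false
universe u

namespace Groth.Agent.RigBC7

open Groth.Agent.RigFlatH7

variable {C X : Type u} [CommRing C] [CommRing X]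

theorem cpl_lift {R : Type u} [CommRing R] (J : Ideal R) (L : Ideal X) [IsAdicComplete L X] (g : R →+* X)
    (h : J.map g = L) : ∃ G : AdicCompletion J R →+* X, ∀ r, G (algebraMap R _ r) = g r := by
  letI := g.toAlgebra
  obtain rfl : L = J.map (algebraMap R X) := h.symm
  have e : J.map (algebraMap R R) = J := by rw [Algebra.algebraMap_self, Ideal.map_id]
  have h1 := Lib.RigH7.exists_lift (R := R) (C := R) (I := J) (Algebra.ofId R X)
  rw [e] at h1
  obtain ⟨G, hG⟩ := h1
  exact ⟨G.toRingHom, hG⟩

theorem cpl_ext {R : Type u} [CommRing R] (J : Ideal R) (hJ : J.FG) (L : Ideal X) [IsAdicComplete L X]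
    {G G' : AdicCompletion J R →+* X} (hG : J.map (G.comp (algebraMap R _)) = L)
    (h : ∀ r, G (algebraMap R _ r) = G' (algebraMap R _ r)) : G = G' := by
  letI := (G.comp (algebraMap R (AdicCompletion J R))).toAlgebra
  obtain rfl : L = J.map (algebraMap R X) := hG.symm
  have e : J.map (algebraMap R R) = J := by rw [Algebra.algebraMap_self, Ideal.map_id]
  have h1 : ∀ F F' : AdicCompletion (J.map (algebraMap R R)) R →ₐ[R] X,
      (∀ c, F (algebraMap R _ c) = F' (algebraMap R _ c)) → F = F' := fun F F' => Lib.RigH7.hom_ext hJ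
  rw [e] at h1
  let F : AdicCompletion J R →ₐ[R] X := { G with commutes' := fun r => rfl }
  let F' : AdicCompletion J R →ₐ[R] X := { G' with commutes' := fun r => (h r).symm }
  exact congrArg AlgHom.toRingHom (h1 F F' h)

theorem cplAway_lift (K : Ideal C) (c : C) (L : Ideal X) [IsAdicComplete L X] (g : C →+* X) (h : K.map g = L)
    (hc : IsUnit (g c)) : ∃ G : CplAway K c →+* X, ∀ a, G (algebraMap C _ a) = g a := by
  let g' : Localization.Away c →+* X := IsLocalization.Away.lift c hc
  obtain ⟨G, hG⟩ := cpl_lift (K.map (algebraMap C (Localization.Away c))) L g' (by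
    rw [Ideal.map_map, IsLocalization.Away.lift_comp]; exact h)
  exact ⟨G, fun a => by
    rw [IsScalarTower.algebraMap_apply C (Localization.Away c) (CplAway K c), hG, IsLocalization.Away.lift_eq]⟩

theorem cplAway_ext (K : Ideal C) (hK : K.FG) (c : C) (L : Ideal X) [IsAdicComplete L X]
    {G G' : CplAway K c →+* X} (hG : K.map (G.comp (algebraMap C _)) = L)
    (h : ∀ a, G (algebraMap C _ a) = G' (algebraMap C _ a)) : G = G' := by
  have hloc : G.comp (algebraMap (Localization.Away c) (CplAway K c)) =
      G'.comp (algebraMap (Localization.Away c) (CplAway K c)) :=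
    IsLocalization.ringHom_ext (Submonoid.powers c) (RingHom.ext fun a => by
      simp only [RingHom.comp_apply, ← IsScalarTower.algebraMap_apply]
      exact h a)
  refine cpl_ext (K.map (algebraMap C (Localization.Away c))) (hK.map _) L ?_ fun r => DFunLike.congr_fun hloc r
  rw [Ideal.map_map, RingHom.comp_assoc, ← IsScalarTower.algebraMap_eq]
  exact hG

/-- A map of complete rings with dense image is surjective. -/
theorem surjective_of_dense (π : C →+* X) (K : Ideal C) (L : Ideal X) [IsAdicComplete K C] [IsAdicComplete L X]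
    (h : K.map π = L) (hd : ∀ x, ∃ c, x - π c ∈ L) : Function.Surjective π := by
  obtain rfl : L = K.map π := h.symm
  refine surjective_of_mk_map_comp_surjective (I := K) π fun y => ?_
  obtain ⟨x, rfl⟩ := Ideal.Quotient.mk_surjective y
  obtain ⟨c, hc⟩ := hd x
  exact ⟨c, (Ideal.Quotient.eq.2 hc).symm⟩

/-- A prime finite over a rig-closed prime is rig-closed. -/
theorem rigClosed_of_finite {A P : Type u} [CommRing A] [CommRing P] [Algebra A P] (I : Ideal A) (Q : PrimeSpectrum P)
    (hQ : ¬ I.map (algebraMap A P) ≤ Q.asIdeal) [Algebra.IsIntegral A (P ⧸ Q.asIdeal)]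
    (hp : ∀ y : PrimeSpectrum A, PrimeSpectrum.comap (algebraMap A P) Q ≤ y → ¬ I ≤ y.asIdeal →
      y = PrimeSpectrum.comap (algebraMap A P) Q) :
    ¬ I.map (algebraMap A P) ≤ Q.asIdeal ∧
      ∀ y : PrimeSpectrum P, Q ≤ y → ¬ I.map (algebraMap A P) ≤ y.asIdeal → y = Q := by
  refine ⟨hQ, fun y hy hyI => ?_⟩
  have hc : y.asIdeal.comap (algebraMap A P) = Q.asIdeal.comap (algebraMap A P) :=
    congrArg PrimeSpectrum.asIdeal (hp (PrimeSpectrum.comap (algebraMap A P) y) (Ideal.comap_mono hy)
      fun hle => hyI (Ideal.map_le_iff_le_comap.2 hle))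
  refine PrimeSpectrum.ext (le_antisymm ?_ hy)
  intro z hz
  by_contra hzQ
  obtain ⟨P', hm, hev⟩ := Algebra.IsIntegral.isIntegral (R := A) (Ideal.Quotient.mk Q.asIdeal z)
  have hev' : Polynomial.aeval z P' ∈ Q.asIdeal := by
    rw [← Ideal.Quotient.eq_zero_iff_mem, ← Ideal.Quotient.mkₐ_eq_mk A, ← Polynomial.aeval_algHom_apply]
    exact hev
  have hmain : ∀ (n : ℕ) (p : Polynomial A), p.natDegree ≤ n → Polynomial.aeval z p ∈ Q.asIdeal →
      ∀ i, algebraMap A P (p.coeff i) ∈ Q.asIdeal := by
    intro n
    induction n with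
    | zero =>
      intro p hp0 hev i
      rw [Polynomial.eq_C_of_natDegree_le_zero hp0] at hev ⊢
      rw [Polynomial.aeval_C] at hev
      rw [Polynomial.coeff_C]
      split_ifs with h
      · exact hev
      · rw [map_zero]; exact zero_mem _
    | succ n ih =>
      intro p hpn hev
      have hsplit := Polynomial.X_mul_divX_add p
      have hev2 : z * Polynomial.aeval z p.divX + algebraMap A P (p.coeff 0) ∈ Q.asIdeal := by
        rwa [← hsplit, map_add, map_mul, Polynomial.aeval_X, Polynomial.aeval_C] at hev
      have h0 : algebraMap A P (p.coeff 0) ∈ Q.asIdeal := by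
        have : p.coeff 0 ∈ y.asIdeal.comap (algebraMap A P) := by
          have := y.asIdeal.sub_mem (hy hev2) (y.asIdeal.mul_mem_right (Polynomial.aeval z p.divX) hz)
          simpa using this
        rwa [hc] at this
      have h1 : z * Polynomial.aeval z p.divX ∈ Q.asIdeal := by
        simpa using Q.asIdeal.sub_mem hev2 h0
      intro i
      cases i with
      | zero => exact h0
      | succ i =>
        rw [← Polynomial.coeff_divX]
        exact ih p.divX (by rw [Polynomial.natDegree_divX_eq_natDegree_tsub_one]; omega)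
          ((Q.isPrime.mem_or_mem h1).resolve_left hzQ) i
  refine Q.isPrime.ne_top ((Ideal.eq_top_iff_one _).2 ?_)
  have := hmain _ P' le_rfl hev' P'.natDegree
  rwa [hm.coeff_natDegree, map_one] at this

/-- Flatness passes to the base change along a surjection. -/
theorem flat_quotient_localization {R S R' S' : Type u} [CommRing R] [CommRing S] [CommRing R'] [CommRing S']
    (φ : R →+* S) (π : R →+* R') (ρ : S →+* S') (φ' : R' →+* S') (hπ : Function.Surjective π)
    (hρ : Function.Surjective ρ) (hcomm : ∀ r, φ' (π r) = ρ (φ r)) (hker : RingHom.ker ρ = (RingHom.ker π).map φ)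
    (q : Ideal S') [q.IsPrime]
    (hflat : ((algebraMap S (Localization.AtPrime (q.comap ρ))).comp φ).Flat) :
    ((algebraMap S' (Localization.AtPrime q)).comp φ').Flat := by
  let Sq := Localization.AtPrime (q.comap ρ)
  let θ := (algebraMap S Sq).comp φ
  let lρ : Sq →+* Localization.AtPrime q := Localization.localRingHom (q.comap ρ) q ρ rfl
  have hM : Submonoid.map ρ (q.comap ρ).primeCompl = q.primeCompl := by
    ext x
    constructor
    · rintro ⟨s, hs, rfl⟩; exact hs
    · intro hx
      obtain ⟨s, rfl⟩ := hρ x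
      exact ⟨s, hx, rfl⟩
  have hker' : RingHom.ker lρ = (RingHom.ker π).map θ := by
    show RingHom.ker (IsLocalization.map (Localization.AtPrime q) ρ _ : Sq →+* _) = _
    rw [IsLocalization.ker_map (Localization.AtPrime q) ρ hM, hker, Ideal.map_map]
  have hsurj : Function.Surjective lρ := by
    haveI : IsLocalization ((q.comap ρ).primeCompl.map ρ) (Localization.AtPrime q) := by
      rw [hM]; infer_instance
    exact IsLocalization.map_surjective_of_surjective (q.comap ρ).primeCompl Sq (Localization.AtPrime q) hρ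
  let e1 := RingHom.quotientKerEquivOfSurjective hπ
  let e2 : Sq ⧸ (RingHom.ker π).map θ ≃+* Localization.AtPrime q :=
    (Ideal.quotEquivOfEq hker'.symm).trans (RingHom.quotientKerEquivOfSurjective hsurj)
  have h2 := ((RingHom.Flat.of_bijective e1.symm.bijective : e1.symm.toRingHom.Flat).comp
    (FormalH7.flat_quotientMap (RingHom.ker π) hflat)).comp
    (RingHom.Flat.of_bijective e2.bijective : e2.toRingHom.Flat)
  convert h2
  refine RingHom.ext fun x => ?_
  obtain ⟨r, rfl⟩ := hπ x
  have h3 : e1.symm (π r) = Ideal.Quotient.mk _ r := by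
    rw [RingEquiv.symm_apply_eq, RingHom.quotientKerEquivOfSurjective_apply_mk]
  show algebraMap S' _ (φ' (π r)) = e2 (Ideal.quotientMap _ θ Ideal.le_comap_map (e1.symm (π r)))
  rw [h3, Ideal.quotientMap_mk, hcomm]
  show _ = RingHom.quotientKerEquivOfSurjective hsurj (Ideal.quotEquivOfEq hker'.symm (Ideal.Quotient.mk _ (θ r)))
  rw [Ideal.quotEquivOfEq_mk, RingHom.quotientKerEquivOfSurjective_apply_mk]
  exact (Localization.localRingHom_to_map (q.comap ρ) q ρ rfl (φ r)).symm

end Groth.Agent.RigBC7
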