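import Groth.Agent.Lib.RigBC7.Step
import Groth.Agent.S8800

/-! The completed tensor product and its completed localisations. -/

set_option autoImplicit false
set_option linter.style.haveILetI false
universe u

open TensorProduct

namespace Groth.Agent.RigBC7

open Groth.Agent.RigFlatH7

variable {A : Type u} [CommRing A] [IsNoetherianRing A] (I : Ideal A) [IsAdicComplete I A]

/-- Rig-flatness of the base change, in abstract form. -/
theorem flat_baseChange {B C D : Type u} [CommRing B] [CommRing C] [CommRing D] [Algebra A B] [Algebra A C]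
    [Algebra A D] [Algebra C D] [IsScalarTower A C D] [IsNoetherianRing B] [IsNoetherianRing C] [IsNoetherianRing D]
    [IsAdicComplete (I.map (algebraMap A B)) B] [IsAdicComplete (I.map (algebraMap A C)) C]
    (hftC : Algebra.FiniteType A (C ⧸ I.map (algebraMap A C)))
    (hftD : Algebra.FiniteType A (D ⧸ I.map (algebraMap A D)))
    (dB : B →ₐ[A] D)
    (hext : ∀ (X : Type u) [CommRing X] [Algebra A X] [IsAdicComplete (I.map (algebraMap A X)) X] (G G' : D →+* X),
      (∀ a, G (algebraMap A D a) = algebraMap A X a) →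
      (∀ c, G (algebraMap C D c) = G' (algebraMap C D c)) → (∀ b, G (dB b) = G' (dB b)) → G = G')
    (hlift : ∀ (X : Type u) [CommRing X] [Algebra A X] [IsAdicComplete (I.map (algebraMap A X)) X]
      (gC : C →ₐ[A] X) (gB : B →ₐ[A] X), ∃ G : D →+* X, (∀ c, G (algebraMap C D c) = gC c) ∧ ∀ b, G (dB b) = gB b)
    (hB : ∀ (f : A) (ψ : CplAway I f →+* CplAway (I.map (algebraMap A B)) (algebraMap A B f)),
      (∀ a, ψ (algebraMap A _ a) = algebraMap A _ a) →
      ∀ Q : Ideal (CplAway (I.map (algebraMap A B)) (algebraMap A B f)), ∀ _ : Q.IsPrime,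
        ¬ I.map (algebraMap A (CplAway (I.map (algebraMap A B)) (algebraMap A B f))) ≤ Q →
        ((algebraMap _ (Localization.AtPrime Q)).comp ψ).Flat)
    (h : C) (JD : Ideal D) (hJD : I.map (algebraMap A D) = JD)
    (φ : CplAway (I.map (algebraMap A C)) h →+* CplAway JD (algebraMap C D h))
    (hφ : ∀ c, φ (algebraMap C _ c) = algebraMap D (CplAway JD (algebraMap C D h)) (algebraMap C D c))
    (q : PrimeSpectrum (CplAway JD (algebraMap C D h)))
    (hq : ¬ JD.map (algebraMap D (CplAway JD (algebraMap C D h))) ≤ q.asIdeal ∧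
      ∀ y : PrimeSpectrum (CplAway JD (algebraMap C D h)), q ≤ y →
        ¬ JD.map (algebraMap D (CplAway JD (algebraMap C D h))) ≤ y.asIdeal → y = q) :
    ((algebraMap (CplAway JD (algebraMap C D h)) (Localization.AtPrime q.asIdeal)).comp φ).Flat := by
  subst hJD
  let IC := I.map (algebraMap A C)
  let ID := I.map (algebraMap A D)
  let C1 := CplAway IC h
  let T1 := CplAway ID (algebraMap C D h)
  haveI : IsNoetherianRing C1 := isNoetherianRing_cplAway IC h
  haveI : IsNoetherianRing T1 := isNoetherianRing_cplAway ID _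
  haveI : IsAdicComplete (I.map (algebraMap A C1)) C1 := complete_cplAway I IC rfl h
  haveI : IsAdicComplete (I.map (algebraMap A T1)) T1 := complete_cplAway I ID rfl _
  have hftC1 : Algebra.FiniteType A (C1 ⧸ I.map (algebraMap A C1)) := by
    rw [map_eq_map_cplAway h I IC rfl]; exact finiteType_cplAway IC h A hftC
  have hftT1 : Algebra.FiniteType A (T1 ⧸ I.map (algebraMap A T1)) := by
    rw [map_eq_map_cplAway (algebraMap C D h) I ID rfl]; exact finiteType_cplAway ID _ A hftD
  have hφA : ∀ a, φ (algebraMap A C1 a) = algebraMap A T1 a := fun a => by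
    rw [IsScalarTower.algebraMap_apply A C C1, hφ, ← IsScalarTower.algebraMap_apply A C D,
      ← IsScalarTower.algebraMap_apply A D T1]
  let cC : C1 →ₐ[A] T1 := { φ with commutes' := hφA }
  let cB : B →ₐ[A] T1 := (IsScalarTower.toAlgHom A D T1).comp dB
  have eT : I.map (algebraMap A T1) = ID.map (algebraMap D T1) := map_eq_map_cplAway (algebraMap C D h) I ID rfl
  refine flat_step I hftC1 hftT1 cC cB (fun X iX iA iXc G G' hA hGC hGB => ?_) (fun X iX iA iXc gC gB => ?_) hB q
    (by rw [eT]; exact hq)
  · have hD : G.comp (algebraMap D T1) = G'.comp (algebraMap D T1) := hext X _ _ (fun a => by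
        rw [RingHom.comp_apply, ← IsScalarTower.algebraMap_apply]; exact hA a)
      (fun c => by
        show G (algebraMap D T1 (algebraMap C D c)) = G' (algebraMap D T1 (algebraMap C D c))
        rw [← hφ]
        exact hGC _)
      (fun c => hGB c)
    refine cplAway_ext ID (IsNoetherian.noetherian _) _ (I.map (algebraMap A X)) ?_ fun a => DFunLike.congr_fun hD a
    exact map_eq_of_forall I _ fun a => by rw [RingHom.comp_apply, ← IsScalarTower.algebraMap_apply]; exact hA a
  · obtain ⟨G, hGC, hGB⟩ := hlift X (gC.comp (IsScalarTower.toAlgHom A C C1)) gB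
    have hGA : ∀ a, G (algebraMap A D a) = algebraMap A X a := fun a => by
      rw [IsScalarTower.algebraMap_apply A C D, hGC, AlgHom.commutes]
    have hGu : IsUnit (G (algebraMap C D h)) := by
      rw [hGC]; exact (isUnit_cplAway IC h).map gC
    obtain ⟨G1, hG1⟩ := cplAway_lift ID (algebraMap C D h) (I.map (algebraMap A X)) G (map_eq_of_forall I G hGA) hGu
    refine ⟨G1, fun c => ?_, fun c => (hG1 _).trans (hGB c)⟩
    refine DFunLike.congr_fun (cplAway_ext IC (IsNoetherian.noetherian _) h (I.map (algebraMap A X))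
      (G := G1.comp φ) (G' := gC.toRingHom) ?_ fun a => ?_) c
    · exact map_eq_of_forall I _ fun a => by
        show G1 (φ (algebraMap C C1 (algebraMap A C a))) = algebraMap A X a
        rw [hφ, hG1, ← IsScalarTower.algebraMap_apply, hGA]
    · show G1 (φ (algebraMap C C1 a)) = gC (algebraMap C C1 a)
      rw [hφ, hG1, hGC]
      rfl

/-- The completed tensor product. -/
theorem completedTensor_props {B C : Type u} [CommRing B] [CommRing C] [Algebra A B] [Algebra A C]
    [IsNoetherianRing C] (hftB : Algebra.FiniteType A (B ⧸ I.map (algebraMap A B)))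
    (hftC : Algebra.FiniteType A (C ⧸ I.map (algebraMap A C))) :
    IsNoetherianRing (AdicCompletion ((I.map (algebraMap A C)).map (algebraMap C (C ⊗[A] B))) (C ⊗[A] B)) ∧
    Algebra.FiniteType A (AdicCompletion ((I.map (algebraMap A C)).map (algebraMap C (C ⊗[A] B))) (C ⊗[A] B) ⧸
      I.map (algebraMap A (AdicCompletion ((I.map (algebraMap A C)).map (algebraMap C (C ⊗[A] B))) (C ⊗[A] B)))) := by
  let IC := I.map (algebraMap A C)
  let Z := C ⊗[A] B
  let D := AdicCompletion (IC.map (algebraMap C Z)) Z
  let L := I.map (algebraMap A D)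
  have eD : L = IC.map (algebraMap C D) :=
    (map_eq_of_forall I (algebraMap C D) fun a => (IsScalarTower.algebraMap_apply A C D a).symm).symm
  haveI hc : IsAdicComplete L D := eD ▸ Lib.RigH7.isAdicComplete_completion (IsNoetherian.noetherian IC)
  let j : Z →ₐ[A] D := IsScalarTower.toAlgHom A Z D
  let jC : (C ⧸ IC) →ₐ[A] D ⧸ L := Ideal.quotientMapₐ L (j.comp Algebra.TensorProduct.includeLeft)
    (Ideal.map_le_iff_le_comap.1 (map_eq_of_forall I _ fun a => AlgHom.commutes _ a).le)
  let jB : (B ⧸ I.map (algebraMap A B)) →ₐ[A] D ⧸ L := Ideal.quotientMapₐ L (j.comp Algebra.TensorProduct.includeRight)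
    (Ideal.map_le_iff_le_comap.1 (map_eq_of_forall I _ fun a => AlgHom.commutes _ a).le)
  let J : (C ⧸ IC) ⊗[A] (B ⧸ I.map (algebraMap A B)) →ₐ[A] D ⧸ L :=
    Algebra.TensorProduct.lift jC jB fun _ _ => Commute.all _ _
  have hJ : Function.Surjective J := by
    intro y
    obtain ⟨x, rfl⟩ := Ideal.Quotient.mk_surjective y
    obtain ⟨z, hz⟩ := Lib.RigH7.exists_sub_mem (IsNoetherian.noetherian IC) x 1
    rw [pow_one, ← eD] at hz
    rw [show Ideal.Quotient.mk L x = Ideal.Quotient.mk L (algebraMap Z D z) from Ideal.Quotient.eq.2 hz]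
    clear hz
    induction z using TensorProduct.induction_on with
    | zero => exact ⟨0, by simp⟩
    | tmul c b =>
      refine ⟨Ideal.Quotient.mk _ c ⊗ₜ Ideal.Quotient.mk _ b, ?_⟩
      rw [Algebra.TensorProduct.lift_tmul]
      show Ideal.Quotient.mk L (algebraMap Z D (c ⊗ₜ 1)) * Ideal.Quotient.mk L (algebraMap Z D (1 ⊗ₜ b)) = _
      rw [← map_mul, ← map_mul, Algebra.TensorProduct.tmul_mul_tmul, mul_one, one_mul]
    | add u v hu hv =>
      obtain ⟨u', hu'⟩ := hu
      obtain ⟨v', hv'⟩ := hv
      exact ⟨u' + v', by rw [map_add, hu', hv', map_add, map_add]⟩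
  haveI : Algebra.FiniteType A ((C ⧸ IC) ⊗[A] (B ⧸ I.map (algebraMap A B))) := by
    haveI := hftB
    exact hftC.trans inferInstance
  have hft : Algebra.FiniteType A (D ⧸ L) := Algebra.FiniteType.of_surjective J hJ
  exact ⟨Groth.Agent.S8800.result A I D hft, hft⟩

end Groth.Agent.RigBC7
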