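import Groth.Agent.Lib.RigBC7.Restricted
import Groth.Agent.S8834
import Groth.Agent.S8822

/-! Completed tensor products and flatness at rig-closed points. -/

set_option autoImplicit false
set_option linter.style.haveILetI false
universe u

namespace Groth.Agent.RigBC7

variable {A : Type u} [CommRing A] [IsNoetherianRing A] {I : Ideal A} [IsAdicComplete I A]

omit [IsNoetherianRing A] [IsAdicComplete I A] in
theorem complete_pw (B : Type u) [CommRing B] [IsNoetherianRing B] [Algebra A B] (n : ℕ) :
    IsAdicComplete (I.map (algebraMap A (Pw B (I.map (algebraMap A B)) n))) (Pw B (I.map (algebraMap A B)) n) := by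
  have e : I.map (algebraMap A (Pw B (I.map (algebraMap A B)) n)) =
      (I.map (algebraMap A B)).map (algebraMap B (Pw B (I.map (algebraMap A B)) n)) := by
    refine Eq.trans ?_ (Ideal.map_map _ _).symm
    exact congrArg (fun g => I.map g) (RingHom.ext fun a => by
      rw [RingHom.comp_apply, IsScalarTower.algebraMap_apply A (MvPolynomial (Fin n) B),
        IsScalarTower.algebraMap_apply B (MvPolynomial (Fin n) B), IsScalarTower.algebraMap_apply A B (MvPolynomial (Fin n) B)])
  rw [e]
  exact Lib.RigH7.isAdicComplete_completion (IsNoetherian.noetherian _)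

/-- A presentation of a completed tensor product by restricted power series. -/
theorem exists_presentation {B C T : Type u} [CommRing B] [CommRing C] [CommRing T]
    [Algebra A B] [Algebra A C] [Algebra A T] [IsNoetherianRing B] [IsNoetherianRing C] [IsNoetherianRing T]
    [IsAdicComplete (I.map (algebraMap A B)) B] [IsAdicComplete (I.map (algebraMap A C)) C]
    [IsAdicComplete (I.map (algebraMap A T)) T]
    (hftC : Algebra.FiniteType A (C ⧸ I.map (algebraMap A C)))
    (cC : C →ₐ[A] T) (cB : B →ₐ[A] T)
    (hext : ∀ G : T →+* T, (∀ c, G (cC c) = cC c) → (∀ b, G (cB b) = cB b) → G = RingHom.id T)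
    (hlift : ∀ (X : Type u) [CommRing X] [Algebra A X] [IsAdicComplete (I.map (algebraMap A X)) X]
      (gC : C →ₐ[A] X) (gB : B →ₐ[A] X), ∃ G : T →+* X, (∀ c, G (cC c) = gC c) ∧ ∀ b, G (cB b) = gB b) :
    ∃ (n : ℕ) (π : Pw A I n →+* C) (Φ : Pw A I n →+* Pw B (I.map (algebraMap A B)) n)
      (ρ : Pw B (I.map (algebraMap A B)) n →+* T),
      Function.Surjective π ∧ Function.Surjective ρ ∧ (∀ r, cC (π r) = ρ (Φ r)) ∧
      RingHom.ker ρ = (RingHom.ker π).map Φ ∧
      (∀ p, Φ (algebraMap (MvPolynomial (Fin n) A) _ p) =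
        algebraMap (MvPolynomial (Fin n) B) _ (MvPolynomial.map (algebraMap A B) p)) ∧
      ρ.comp (algebraMap A _) = algebraMap A T ∧ Φ.comp (algebraMap A _) = algebraMap A _ := by
  classical
  haveI : Algebra.FiniteType A (C ⧸ (I.map (algebraMap A C)).radical) :=
    hftC.of_surjective (Ideal.Quotient.factorₐ A Ideal.le_radical) (Ideal.Quotient.factor_surjective Ideal.le_radical)
  obtain ⟨n, b, hb⟩ := Groth.Agent.S8834.result A I C (I.map (algebraMap A C)) Ideal.le_radical inferInstance
  let R0 := MvPolynomial (Fin n) A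
  let S0 := MvPolynomial (Fin n) B
  let IB := I.map (algebraMap A B)
  let U := Pw B IB n
  let P := Pw A I n
  haveI : IsNoetherianRing P := Compl.isNoetherianRing_adicCompletion _ (IsNoetherian.noetherian _)
  haveI : IsNoetherianRing U := Compl.isNoetherianRing_adicCompletion _ (IsNoetherian.noetherian _)
  haveI : IsAdicComplete (I.map (algebraMap A P)) P := Lib.RigH7.isAdicComplete_completion (IsNoetherian.noetherian _)
  haveI : IsAdicComplete (I.map (algebraMap A U)) U := complete_pw B n
  have hmapA : ∀ {X : Type u} [CommRing X] [Algebra A X] (g : R0 →+* X), (∀ a, g (algebraMap A R0 a) = algebraMap A X a) →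
      (I.map (algebraMap A R0)).map g = I.map (algebraMap A X) := fun g hg => by
    rw [Ideal.map_map]; exact congrArg (fun f => I.map f) (RingHom.ext hg)
  -- the three maps
  obtain ⟨π, hπ⟩ := cpl_lift (I.map (algebraMap A R0)) (I.map (algebraMap A C)) (MvPolynomial.aeval b).toRingHom
    (hmapA _ fun a => (MvPolynomial.aeval b).commutes a)
  have hUS : ∀ a, algebraMap A U a = algebraMap S0 U (MvPolynomial.map (algebraMap A B) (algebraMap A R0 a)) := fun a => by
    rw [IsScalarTower.algebraMap_apply A S0 U, MvPolynomial.algebraMap_apply, MvPolynomial.algebraMap_apply, MvPolynomial.map_C]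
    rfl
  obtain ⟨Φ, hΦ⟩ := cpl_lift (I.map (algebraMap A R0)) (I.map (algebraMap A U))
    ((algebraMap S0 U).comp (MvPolynomial.map (algebraMap A B))) (hmapA _ fun a => (hUS a).symm)
  let gρ : S0 →+* T := MvPolynomial.eval₂Hom cB.toRingHom fun i => cC (b i)
  have hgA : ∀ a, gρ (algebraMap A S0 a) = algebraMap A T a := fun a => by
    rw [MvPolynomial.algebraMap_apply, MvPolynomial.eval₂Hom_C]
    exact cB.commutes a
  obtain ⟨ρ, hρ⟩ := cpl_lift (IB.map (algebraMap B S0)) (I.map (algebraMap A T)) gρ (by
    rw [Ideal.map_map, Ideal.map_map]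
    exact congrArg (fun f => I.map f) (RingHom.ext fun a => by
      rw [RingHom.comp_apply, RingHom.comp_apply, MvPolynomial.algebraMap_eq, MvPolynomial.eval₂Hom_C]
      exact cB.commutes a))
  have hPA : ∀ a, algebraMap A P a = algebraMap R0 P (algebraMap A R0 a) := IsScalarTower.algebraMap_apply A R0 P
  have hπs : Function.Surjective π := surjective_of_dense π (I.map (algebraMap A P)) (I.map (algebraMap A C))
    (by rw [Ideal.map_map]; exact congrArg (fun f => I.map f) (RingHom.ext fun a => by
      rw [RingHom.comp_apply, hPA, hπ]; exact (MvPolynomial.aeval b).commutes a))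
    fun x => by
      obtain ⟨p, hp'⟩ := hb x 1
      exact ⟨algebraMap R0 P p, by rw [hπ]; simpa using hp'⟩
  have hcomm : ρ.comp Φ = cC.toRingHom.comp π := by
    refine cpl_ext (I.map (algebraMap A R0)) (IsNoetherian.noetherian _) (I.map (algebraMap A T)) (hmapA _ fun a => ?_)
      fun r => ?_
    · show ρ (Φ (algebraMap R0 P (algebraMap A R0 a))) = algebraMap A T a
      rw [hΦ, RingHom.comp_apply, ← hUS, IsScalarTower.algebraMap_apply A S0 U, hρ, hgA]
    · show ρ (Φ (algebraMap R0 P r)) = cC (π (algebraMap R0 P r))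
      rw [hΦ, hπ, RingHom.comp_apply, hρ]
      show gρ (MvPolynomial.map (algebraMap A B) r) = cC (MvPolynomial.aeval b r)
      induction r using MvPolynomial.induction_on with
      | C a =>
        rw [MvPolynomial.map_C, MvPolynomial.eval₂Hom_C, MvPolynomial.aeval_C, AlgHom.commutes]
        exact cB.commutes a
      | add u v hu hv => simp only [map_add, hu, hv]
      | mul_X u i hu =>
        simp only [map_mul, hu, MvPolynomial.map_X, MvPolynomial.aeval_X]
        exact congrArg _ (MvPolynomial.eval₂Hom_X' _ _ i)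
  -- the quotient of restricted power series
  let K := (RingHom.ker π).map Φ
  let T' := U ⧸ K
  haveI : IsAdicComplete (I.map (algebraMap A T')) T' := by
    haveI : IsAdicComplete ((I.map (algebraMap A U)).map (algebraMap U U)) U := by
      rw [Algebra.algebraMap_self, Ideal.map_id]; infer_instance
    have h := Groth.Agent.S8822.result U (I.map (algebraMap A U)) U inferInstance K
    have e : (I.map (algebraMap A U)).map (algebraMap U T') = I.map (algebraMap A T') :=
      (Ideal.map_map _ _).trans (congrArg (fun f => I.map f) (IsScalarTower.algebraMap_eq A U T').symm)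
    exact e ▸ h
  let toT' : U →+* T' := Ideal.Quotient.mk K
  let gC : C →+* T' := π.liftOfSurjective hπs ⟨toT'.comp Φ, fun z hz =>
    Ideal.Quotient.eq_zero_iff_mem.2 (Ideal.mem_map_of_mem Φ hz)⟩
  have hgC : ∀ p, gC (π p) = toT' (Φ p) := fun p => RingHom.liftOfRightInverse_comp_apply _ _ _ _ p
  let gCa : C →ₐ[A] T' := { gC with
    commutes' := fun a => by
      show gC (algebraMap A C a) = algebraMap A T' a
      have h1 : π (algebraMap A P a) = algebraMap A C a := by
        rw [hPA, hπ]; exact (MvPolynomial.aeval b).commutes a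
      rw [← h1, hgC, hPA, hΦ, RingHom.comp_apply, ← hUS]
      rfl }
  let gBa : B →ₐ[A] T' :=
    { toT'.comp ((algebraMap S0 U).comp (algebraMap B S0)) with
      commutes' := fun a => by
        show toT' (algebraMap S0 U (algebraMap B S0 (algebraMap A B a))) = algebraMap A T' a
        rw [← IsScalarTower.algebraMap_apply A B S0, ← IsScalarTower.algebraMap_apply A S0 U]
        rfl }
  obtain ⟨G, hGC, hGB⟩ := hlift T' gCa gBa
  have hker1 : K ≤ RingHom.ker ρ := Ideal.map_le_iff_le_comap.2 fun z hz => by
    rw [Ideal.mem_comap, RingHom.mem_ker, ← RingHom.comp_apply, hcomm, RingHom.comp_apply, hz, map_zero]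
  have hGρ : G.comp ρ = toT' := by
    refine cpl_ext (IB.map (algebraMap B S0)) (IsNoetherian.noetherian _) (I.map (algebraMap A T')) ?_ fun r => ?_
    · refine ((Ideal.map_map _ _).trans (Ideal.map_map _ _)).trans (congrArg (fun f => I.map f) (RingHom.ext fun a => ?_))
      show G (ρ (algebraMap S0 U (algebraMap B S0 (algebraMap A B a)))) = algebraMap A T' a
      rw [hρ]
      exact (congrArg G (MvPolynomial.eval₂Hom_C _ _ _)).trans ((hGB _).trans (gBa.commutes a))
    · show G (ρ (algebraMap S0 U r)) = toT' (algebraMap S0 U r)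
      rw [hρ]
      induction r using MvPolynomial.induction_on with
      | C c =>
        rw [MvPolynomial.eval₂Hom_C]
        exact hGB c
      | add u v hu hv => simp only [map_add, hu, hv]
      | mul_X u i hu =>
        simp only [map_mul, hu]
        congr 1
        rw [MvPolynomial.eval₂Hom_X', hGC]
        show gC (b i) = _
        rw [← MvPolynomial.aeval_X (R := A) b i]
        refine (congrArg gC (hπ (MvPolynomial.X i)).symm).trans ((hgC _).trans ?_)
        rw [hΦ, RingHom.comp_apply, MvPolynomial.map_X]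
  have hρs : Function.Surjective ρ := by
    let ρ' : T' →+* T := Ideal.Quotient.lift K ρ fun z hz => hker1 hz
    have h := hext (ρ'.comp G) (fun c => by
      obtain ⟨p, rfl⟩ := hπs c
      show ρ' (G (cC (π p))) = cC (π p)
      rw [hGC]
      show ρ' (gC (π p)) = _
      rw [hgC]
      exact DFunLike.congr_fun hcomm p) (fun c => by
      show ρ' (G (cB c)) = cB c
      rw [hGB]
      show ρ (algebraMap S0 U (algebraMap B S0 c)) = _
      rw [hρ, MvPolynomial.algebraMap_eq, MvPolynomial.eval₂Hom_C]
      rfl)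
    intro t
    obtain ⟨u, hu⟩ := Ideal.Quotient.mk_surjective (G t)
    exact ⟨u, by rw [← Ideal.Quotient.lift_mk K ρ (fun z hz => hker1 hz), hu]; exact DFunLike.congr_fun h t⟩
  have hker : RingHom.ker ρ = K := le_antisymm (fun z hz => by
    have h := DFunLike.congr_fun hGρ z
    rw [RingHom.comp_apply, hz, map_zero] at h
    exact Ideal.Quotient.eq_zero_iff_mem.1 h.symm) hker1
  refine ⟨n, π, Φ, ρ, hπs, hρs, fun r => (DFunLike.congr_fun hcomm r).symm, hker, fun p => hΦ p, ?_, ?_⟩
  · exact RingHom.ext fun a => by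
      rw [RingHom.comp_apply, IsScalarTower.algebraMap_apply A S0 U, hρ, hgA]
  · exact RingHom.ext fun a => by
      rw [RingHom.comp_apply, hPA, hΦ, RingHom.comp_apply, ← hUS]

/-- A quotient of integral type is inherited. -/
theorem isIntegral_quotient_comap {A P T : Type u} [CommRing A] [CommRing P] [CommRing T] [Algebra A P] [Algebra A T]
    (g : P →ₐ[A] T) (q : Ideal T) [Algebra.IsIntegral A (T ⧸ q)] : Algebra.IsIntegral A (P ⧸ q.comap g) :=
  Algebra.IsIntegral.of_injective (Ideal.quotientMapₐ q g le_rfl) (Ideal.quotientMap_injective' (H := le_rfl) le_rfl)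

/-- Flatness at a rig-closed point of a completed tensor product. -/
theorem flat_completedTensor {B C T : Type u} [CommRing B] [CommRing C] [CommRing T]
    [Algebra A B] [Algebra A C] [Algebra A T] [IsNoetherianRing B] [IsNoetherianRing C] [IsNoetherianRing T]
    [IsAdicComplete (I.map (algebraMap A B)) B] [IsAdicComplete (I.map (algebraMap A C)) C]
    [IsAdicComplete (I.map (algebraMap A T)) T]
    (hftC : Algebra.FiniteType A (C ⧸ I.map (algebraMap A C)))
    (cC : C →ₐ[A] T) (cB : B →ₐ[A] T)
    (hext : ∀ G : T →+* T, (∀ c, G (cC c) = cC c) → (∀ b, G (cB b) = cB b) → G = RingHom.id T)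
    (hlift : ∀ (X : Type u) [CommRing X] [Algebra A X] [IsAdicComplete (I.map (algebraMap A X)) X]
      (gC : C →ₐ[A] X) (gB : B →ₐ[A] X), ∃ G : T →+* X, (∀ c, G (cC c) = gC c) ∧ ∀ b, G (cB b) = gB b)
    (hB : ∀ Q : Ideal B, ∀ _ : Q.IsPrime, ¬ I.map (algebraMap A B) ≤ Q →
      ((algebraMap B (Localization.AtPrime Q)).comp (algebraMap A B)).Flat)
    (q : PrimeSpectrum T) (hq : ¬ I.map (algebraMap A T) ≤ q.asIdeal) [Algebra.IsIntegral A (T ⧸ q.asIdeal)]
    (hp : ∀ y : PrimeSpectrum A, PrimeSpectrum.comap (algebraMap A T) q ≤ y → ¬ I ≤ y.asIdeal →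
      y = PrimeSpectrum.comap (algebraMap A T) q) :
    ((algebraMap T (Localization.AtPrime q.asIdeal)).comp cC.toRingHom).Flat := by
  haveI := q.isPrime
  obtain ⟨n, π, Φ, ρ, hπs, hρs, hcomm, hker, hΦ, hρA, hΦA⟩ := exists_presentation hftC cC cB hext hlift
  let q₀ : PrimeSpectrum (Pw B (I.map (algebraMap A B)) n) := PrimeSpectrum.comap ρ q
  let ρΦ : Pw A I n →ₐ[A] T := { ρ.comp Φ with
    commutes' := fun a => by
      show ρ (Φ (algebraMap A (Pw A I n) a)) = algebraMap A T a
      rw [← RingHom.comp_apply Φ, hΦA, ← RingHom.comp_apply ρ, hρA] }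
  let P₀ := PrimeSpectrum.comap Φ q₀
  haveI : Algebra.IsIntegral A (Pw A I n ⧸ P₀.asIdeal) := isIntegral_quotient_comap ρΦ q.asIdeal
  have hcomapA : PrimeSpectrum.comap (algebraMap A (Pw A I n)) P₀ = PrimeSpectrum.comap (algebraMap A T) q := by
    refine PrimeSpectrum.ext ?_
    show ((q.asIdeal.comap ρ).comap Φ).comap (algebraMap A (Pw A I n)) = q.asIdeal.comap (algebraMap A T)
    rw [Ideal.comap_comap, hΦA, Ideal.comap_comap, hρA]
  have hIp : ¬ I ≤ (PrimeSpectrum.comap (algebraMap A (Pw A I n)) P₀).asIdeal := by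
    rw [hcomapA]; exact fun h => hq (Ideal.map_le_iff_le_comap.2 h)
  have hrigP := rigClosed_of_finite I P₀ (fun h => hIp (Ideal.map_le_iff_le_comap.1 h)) (hcomapA ▸ hp)
  refine flat_quotient_localization Φ π ρ cC.toRingHom hπs hρs hcomm hker q.asIdeal ?_
  refine flat_restricted I n (I.map (algebraMap A B)) Φ hΦ hB q₀ (fun h => hq ?_) hrigP ⟨hIp, hcomapA ▸ hp⟩
  rw [Ideal.map_le_iff_le_comap, ← hρA]
  intro a ha
  have h1 : algebraMap A B a ∈ I.map (algebraMap A B) := Ideal.mem_map_of_mem _ ha
  have h2 : ρ (algebraMap B (Pw B (I.map (algebraMap A B)) n) (algebraMap A B a)) ∈ q.asIdeal := h h1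
  rw [Ideal.mem_comap, RingHom.comp_apply]
  convert h2 using 2
  rw [IsScalarTower.algebraMap_apply A (MvPolynomial (Fin n) B) (Pw B (I.map (algebraMap A B)) n),
    IsScalarTower.algebraMap_apply B (MvPolynomial (Fin n) B) (Pw B (I.map (algebraMap A B)) n),
    ← IsScalarTower.algebraMap_apply A B (MvPolynomial (Fin n) B)]

end Groth.Agent.RigBC7
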