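import Groth.Agent.Lib.RigBC7.Basic
import Groth.Agent.Lib.RigFlatH7.Crit
import Groth.Agent.S8839
import Mathlib.RingTheory.MvPolynomial.Localization
import Mathlib.RingTheory.Flat.Stability

/-! Base change of rig-flat maps to restricted power series. -/

set_option autoImplicit false
set_option linter.style.haveILetI false
universe u

open TensorProduct

namespace Groth.Agent.RigBC7

theorem flat_mvPolynomial_map {R S : Type u} {ι : Type*} [CommRing R] [CommRing S] [Algebra R S] [Module.Flat R S] :
    (MvPolynomial.map (σ := ι) (algebraMap R S)).Flat := by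
  letI := MvPolynomial.algebraMvPolynomial (σ := ι) (R := R) (S := S)
  haveI : Algebra.IsPushout R S (MvPolynomial ι R) (MvPolynomial ι S) := inferInstance
  haveI : Algebra.IsPushout R (MvPolynomial ι R) S (MvPolynomial ι S) := .symm inferInstance
  haveI : Module.Flat (MvPolynomial ι R) (MvPolynomial ι R ⊗[R] S) := Module.Flat.baseChange R (MvPolynomial ι R) S
  have : Module.Flat (MvPolynomial ι R) (MvPolynomial ι S) :=
    Module.Flat.of_linearEquiv (Algebra.IsPushout.equiv R (MvPolynomial ι R) S (MvPolynomial ι S)).symm.toLinearEquiv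
  rw [← MvPolynomial.algebraMap_def]
  exact RingHom.flat_algebraMap_iff.2 this

/-- Flatness at a prime of a polynomial ring. -/
theorem flat_poly {A B : Type u} {ι : Type} [CommRing A] [CommRing B] [Algebra A B] (q : Ideal (MvPolynomial ι B)) [q.IsPrime]
    (h : ((algebraMap B (Localization.AtPrime (q.comap MvPolynomial.C))).comp (algebraMap A B)).Flat) :
    ((algebraMap (MvPolynomial ι B) (Localization.AtPrime q)).comp (MvPolynomial.map (algebraMap A B))).Flat := by
  let BQ := Localization.AtPrime (q.comap (MvPolynomial.C : B →+* MvPolynomial ι B))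
  haveI : Module.Flat A BQ := by
    rw [← RingHom.flat_algebraMap_iff, IsScalarTower.algebraMap_eq A B BQ]
    exact h
  let L := Localization.AtPrime q
  let M := (q.comap (MvPolynomial.C : B →+* MvPolynomial ι B)).primeCompl
  letI := MvPolynomial.algebraMvPolynomial (σ := ι) (R := B) (S := BQ)
  haveI : IsLocalization (M.map (MvPolynomial.C (σ := ι))) (MvPolynomial ι BQ) := inferInstance
  have hle : M.map (MvPolynomial.C (σ := ι)) ≤ q.primeCompl := by
    rintro _ ⟨b, hb, rfl⟩
    exact hb
  letI : Algebra (MvPolynomial ι BQ) L :=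
    IsLocalization.localizationAlgebraOfSubmonoidLe (MvPolynomial ι BQ) L _ _ hle
  haveI : IsScalarTower (MvPolynomial ι B) (MvPolynomial ι BQ) L :=
    IsLocalization.localization_isScalarTower_of_submonoid_le (MvPolynomial ι BQ) L _ _ hle
  haveI := IsLocalization.isLocalization_of_submonoid_le (MvPolynomial ι BQ) L _ _ hle
  have h2 : (algebraMap (MvPolynomial ι BQ) L).Flat :=
    RingHom.flat_algebraMap_iff.2 (IsLocalization.flat L (q.primeCompl.map (algebraMap (MvPolynomial ι B) (MvPolynomial ι BQ))))
  have h3 := (flat_mvPolynomial_map (R := A) (S := BQ) (ι := ι)).comp h2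
  have e : (algebraMap (MvPolynomial ι B) L).comp (MvPolynomial.map (algebraMap A B)) =
      (algebraMap (MvPolynomial ι BQ) L).comp (MvPolynomial.map (algebraMap A BQ)) := by
    rw [IsScalarTower.algebraMap_eq (MvPolynomial ι B) (MvPolynomial ι BQ) L, RingHom.comp_assoc,
      MvPolynomial.algebraMap_def]
    congr 1
    refine RingHom.ext fun p => ?_
    rw [RingHom.comp_apply, MvPolynomial.map_map, ← IsScalarTower.algebraMap_eq]
  rw [e]
  exact h3

variable {A B : Type u} [CommRing A] [CommRing B]

/-- Restricted power series. -/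
abbrev Pw (A : Type u) [CommRing A] (I : Ideal A) (n : ℕ) : Type u :=
  AdicCompletion (I.map (algebraMap A (MvPolynomial (Fin n) A))) (MvPolynomial (Fin n) A)

/-- Base change to restricted power series is flat over rig-closed points. -/
theorem flat_restricted [Algebra A B] [IsNoetherianRing A] [IsNoetherianRing B] (I : Ideal A) [IsAdicComplete I A] (n : ℕ)
    (IB : Ideal B) (Φ : Pw A I n →+* Pw B IB n)
    (hΦ : ∀ p, Φ (algebraMap (MvPolynomial (Fin n) A) _ p) =
      algebraMap (MvPolynomial (Fin n) B) _ (MvPolynomial.map (algebraMap A B) p))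
    (hB : ∀ Q : Ideal B, ∀ _ : Q.IsPrime, ¬ IB ≤ Q →
      ((algebraMap B (Localization.AtPrime Q)).comp (algebraMap A B)).Flat)
    (q : PrimeSpectrum (Pw B IB n)) (hq : ¬ IB ≤ q.asIdeal.comap (algebraMap B (Pw B IB n)))
    (hP : ¬ I.map (algebraMap A (Pw A I n)) ≤ (PrimeSpectrum.comap Φ q).asIdeal ∧
      ∀ y : PrimeSpectrum (Pw A I n), PrimeSpectrum.comap Φ q ≤ y →
        ¬ I.map (algebraMap A (Pw A I n)) ≤ y.asIdeal → y = PrimeSpectrum.comap Φ q)
    (hp : ¬ I ≤ (PrimeSpectrum.comap (algebraMap A (Pw A I n)) (PrimeSpectrum.comap Φ q)).asIdeal ∧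
      ∀ y : PrimeSpectrum A, PrimeSpectrum.comap (algebraMap A (Pw A I n)) (PrimeSpectrum.comap Φ q) ≤ y →
        ¬ I ≤ y.asIdeal → y = PrimeSpectrum.comap (algebraMap A (Pw A I n)) (PrimeSpectrum.comap Φ q)) :
    ((algebraMap (Pw B IB n) (Localization.AtPrime q.asIdeal)).comp Φ).Flat := by
  let P := PrimeSpectrum.comap Φ q
  haveI := P.isPrime
  haveI := q.isPrime
  let R0 := MvPolynomial (Fin n) A
  let S0 := MvPolynomial (Fin n) B
  let R := Localization.AtPrime P.asIdeal
  let L := Localization.AtPrime q.asIdeal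
  haveI : IsNoetherianRing (Pw A I n) := Compl.isNoetherianRing_adicCompletion _ (IsNoetherian.noetherian _)
  haveI : IsNoetherianRing (Pw B IB n) := Compl.isNoetherianRing_adicCompletion _ (IsNoetherian.noetherian _)
  haveI : IsNoetherianRing R := IsLocalization.isNoetherianRing P.asIdeal.primeCompl _ inferInstance
  haveI : IsNoetherianRing L := IsLocalization.isNoetherianRing q.asIdeal.primeCompl _ inferInstance
  -- the maximal ideal of `R` comes from polynomials
  let p0 : Ideal R0 := (PrimeSpectrum.comap (algebraMap R0 (Pw A I n)) P).asIdeal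
  haveI : p0.IsPrime := (PrimeSpectrum.comap (algebraMap R0 (Pw A I n)) P).isPrime
  let l := Localization.localRingHom p0 P.asIdeal (algebraMap R0 (Pw A I n)) rfl
  have hmap : p0.map (algebraMap R0 R) = IsLocalRing.maximalIdeal R := by
    set N := p0.map (algebraMap R0 R)
    have hNle : N ≤ IsLocalRing.maximalIdeal R := by
      refine Ideal.map_le_iff_le_comap.2 fun x hx => ?_
      rw [Ideal.mem_comap, IsScalarTower.algebraMap_apply R0 (Pw A I n) R,
        IsLocalization.AtPrime.to_map_mem_maximal_iff R P.asIdeal]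
      exact hx
    refine le_antisymm hNle (Submodule.le_of_le_smul_of_le_jacobson_bot (I := IsLocalRing.maximalIdeal R)
      (IsNoetherian.noetherian _) (IsLocalRing.jacobson_eq_maximalIdeal ⊥ bot_ne_top).ge fun y hy => ?_)
    obtain ⟨x, hx⟩ := (Groth.Agent.S8839.result A I n P hP hp 2 one_le_two).2 y
    have hxm : x ∈ IsLocalRing.maximalIdeal (Localization.AtPrime p0) := fun hu => by
      have h1 : l x ∈ IsLocalRing.maximalIdeal R := by
        have := (IsLocalRing.maximalIdeal R).sub_mem hy (Ideal.pow_le_self two_ne_zero hx)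
        rwa [sub_sub_cancel] at this
      exact (IsLocalRing.mem_maximalIdeal _).1 h1 (hu.map l)
    have hlx : l x ∈ N := by
      rw [← Localization.AtPrime.map_eq_maximalIdeal] at hxm
      have := Ideal.mem_map_of_mem l hxm
      rw [Ideal.map_map, show l.comp (algebraMap R0 (Localization.AtPrime p0)) = algebraMap R0 R from
        RingHom.ext fun z => by
          exact (Localization.localRingHom_to_map p0 P.asIdeal (algebraMap R0 (Pw A I n)) rfl z).trans
            (IsScalarTower.algebraMap_apply R0 (Pw A I n) R z).symm] at this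
      exact this
    refine Submodule.mem_sup.2 ⟨l x, hlx, y - l x, ?_, by ring⟩
    rw [smul_eq_mul, ← sq]
    exact hx
  -- flatness over polynomials
  let χ := Localization.localRingHom P.asIdeal q.asIdeal Φ rfl
  letI : Algebra R L := χ.toAlgebra
  letI : Algebra R0 L := ((algebraMap (Pw B IB n) L).comp (Φ.comp (algebraMap R0 (Pw A I n)))).toAlgebra
  letI : SMul R0 L := Algebra.toSMul
  letI : Module R0 L := Algebra.toModule
  haveI : IsScalarTower R0 R L := IsScalarTower.of_algebraMap_eq fun z => by
    show _ = χ (algebraMap R0 R z)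
    rw [IsScalarTower.algebraMap_apply R0 (Pw A I n) R]
    exact (Localization.localRingHom_to_map P.asIdeal q.asIdeal Φ rfl (algebraMap R0 (Pw A I n) z)).symm
  haveI : Module.Flat R0 L := by
    rw [← RingHom.flat_algebraMap_iff]
    let r : Ideal S0 := q.asIdeal.comap (algebraMap S0 (Pw B IB n))
    haveI : r.IsPrime := Ideal.comap_isPrime _ _
    have h1 := flat_poly (A := A) (ι := Fin n) r (by
      refine hB _ (Ideal.comap_isPrime _ _) fun hle => hq (hle.trans (le_of_eq ?_))
      rw [Ideal.comap_comap]
      exact congrArg (fun g => q.asIdeal.comap g) (IsScalarTower.algebraMap_eq B S0 (Pw B IB n)).symm)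
    let lr := Localization.localRingHom r q.asIdeal (algebraMap S0 (Pw B IB n)) rfl
    have h2 : lr.Flat := by
      letI := lr.toAlgebra
      exact RingHom.Flat.localRingHom (RingHom.flat_algebraMap_iff.2 inferInstance) q.asIdeal r rfl
    convert RingHom.Flat.comp h1 h2 using 1
    refine RingHom.ext fun z => ?_
    show algebraMap (Pw B IB n) L (Φ (algebraMap R0 _ z)) = lr (algebraMap S0 _ (MvPolynomial.map (algebraMap A B) z))
    rw [hΦ, Localization.localRingHom_to_map]
  haveI : IsLocalHom (algebraMap R L) := Localization.isLocalHom_localRingHom P.asIdeal q.asIdeal Φ rfl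
  have hRL : χ.Flat := RigFlatH7.flat_of_map_eq_maximalIdeal (A := R0) (R := R) (L := L) p0 hmap
  have e : (algebraMap (Pw B IB n) L).comp Φ = χ.comp (algebraMap (Pw A I n) R) :=
    RingHom.ext fun z => (Localization.localRingHom_to_map P.asIdeal q.asIdeal Φ rfl z).symm
  rw [e]
  exact (RingHom.flat_algebraMap_iff.2 (IsLocalization.flat R P.asIdeal.primeCompl)).comp hRL

end Groth.Agent.RigBC7
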