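import Groth.Agent.Lib.RigBC7.Main

/-! Rig-flatness of the completed base change, in the shape of the milestone. -/

set_option autoImplicit false
set_option linter.style.haveILetI false
universe u

open TensorProduct

namespace Groth.Agent.RigBC7

open Groth.Agent.RigFlatH7

variable {A : Type u} [CommRing A] (I : Ideal A)

/-- The completed tensor product `C ⊗̂_A B`. -/
local notation3 "DT" A:max I:max B:max C:max =>
  AdicCompletion ((Ideal.map (algebraMap A C) I).map (algebraMap C (C ⊗[A] B))) (C ⊗[A] B)

theorem algebraMap_cplAway {R : Type u} [CommRing R] (K : Ideal R) (g : R) (x : R) :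
    algebraMap R (CplAway K g) x = algebraMap (Localization.Away g) (CplAway K g) (algebraMap R (Localization.Away g) x) :=
  IsScalarTower.algebraMap_apply R (Localization.Away g) (CplAway K g) x

theorem map_cplAway {R : Type u} [CommRing R] (K : Ideal R) (g : R) :
    (K.map (algebraMap R (Localization.Away g))).map (algebraMap (Localization.Away g) (CplAway K g)) =
      K.map (algebraMap R (CplAway K g)) :=
  (Ideal.map_map _ _).trans (congrArg (fun φ => K.map φ) (IsScalarTower.algebraMap_eq R (Localization.Away g) _).symm)

theorem statement_aux [IsNoetherianRing A] [IsAdicComplete I A] {B C : Type u} [CommRing B] [CommRing C]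
    [Algebra A B] [Algebra A C] [IsNoetherianRing B] [IsAdicComplete (I.map (algebraMap A B)) B]
    (hft : Algebra.FiniteType A (B ⧸ I.map (algebraMap A B)))
    (hAB : ∀ (f : A) (ψ : CplAway I f →+* CplAway (I.map (algebraMap A B)) (algebraMap A B f)),
      ψ.comp (algebraMap (Localization.Away f) _) =
        (algebraMap (Localization.Away (algebraMap A B f)) _).comp (Localization.awayMap (algebraMap A B) f) →
      ∀ qf : PrimeSpectrum (CplAway (I.map (algebraMap A B)) (algebraMap A B f)),
        (¬ ((I.map (algebraMap A B)).map (algebraMap B (Localization.Away (algebraMap A B f)))).map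
            (algebraMap (Localization.Away (algebraMap A B f)) (CplAway (I.map (algebraMap A B)) (algebraMap A B f))) ≤
            qf.asIdeal ∧
          ∀ y : PrimeSpectrum (CplAway (I.map (algebraMap A B)) (algebraMap A B f)), qf ≤ y →
            ¬ ((I.map (algebraMap A B)).map (algebraMap B (Localization.Away (algebraMap A B f)))).map
              (algebraMap (Localization.Away (algebraMap A B f)) (CplAway (I.map (algebraMap A B)) (algebraMap A B f))) ≤
              y.asIdeal → y = qf) →
        ((algebraMap _ (Localization.AtPrime qf.asIdeal)).comp ψ).Flat)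
    [IsNoetherianRing C] [IsAdicComplete (I.map (algebraMap A C)) C]
    (hftC : Algebra.FiniteType A (C ⧸ I.map (algebraMap A C)))
    {D : Type u} [CommRing D] [Algebra A D] [Algebra C D] [IsScalarTower A C D] [IsNoetherianRing D]
    (hftD : Algebra.FiniteType A (D ⧸ I.map (algebraMap A D)))
    (dB : B →ₐ[A] D)
    (hext : ∀ (X : Type u) [CommRing X] [Algebra A X] [IsAdicComplete (I.map (algebraMap A X)) X] (G G' : D →+* X),
      (∀ a, G (algebraMap A D a) = algebraMap A X a) →
      (∀ c, G (algebraMap C D c) = G' (algebraMap C D c)) → (∀ b, G (dB b) = G' (dB b)) → G = G')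
    (hlift : ∀ (X : Type u) [CommRing X] [Algebra A X] [IsAdicComplete (I.map (algebraMap A X)) X]
      (gC : C →ₐ[A] X) (gB : B →ₐ[A] X), ∃ G : D →+* X, (∀ c, G (algebraMap C D c) = gC c) ∧ ∀ b, G (dB b) = gB b)
    (h : C) (ψh : CplAway (I.map (algebraMap A C)) h →+*
      CplAway ((I.map (algebraMap A C)).map (algebraMap C D)) (algebraMap C D h))
    (hψh : ψh.comp (algebraMap (Localization.Away h) _) =
      (algebraMap (Localization.Away (algebraMap C D h)) _).comp (Localization.awayMap (algebraMap C D) h))
    (qh : PrimeSpectrum (CplAway ((I.map (algebraMap A C)).map (algebraMap C D)) (algebraMap C D h)))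
    (hqh : ¬ (((I.map (algebraMap A C)).map (algebraMap C D)).map
          (algebraMap D (Localization.Away (algebraMap C D h)))).map
          (algebraMap _ (CplAway ((I.map (algebraMap A C)).map (algebraMap C D)) (algebraMap C D h))) ≤
          qh.asIdeal ∧
      ∀ y : PrimeSpectrum (CplAway ((I.map (algebraMap A C)).map (algebraMap C D)) (algebraMap C D h)),
        qh ≤ y → ¬ (((I.map (algebraMap A C)).map (algebraMap C D)).map
          (algebraMap D (Localization.Away (algebraMap C D h)))).map
          (algebraMap _ (CplAway ((I.map (algebraMap A C)).map (algebraMap C D)) (algebraMap C D h))) ≤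
          y.asIdeal → y = qh)
    (Lq : Type u) [CommRing Lq] [Algebra (CplAway ((I.map (algebraMap A C)).map (algebraMap C D)) (algebraMap C D h)) Lq]
    [IsLocalization.AtPrime Lq qh.asIdeal] :
    ((algebraMap (CplAway ((I.map (algebraMap A C)).map (algebraMap C D)) (algebraMap C D h)) Lq).comp ψh).Flat := by
  rw [map_cplAway] at hqh
  suffices hF : ((algebraMap _ (Localization.AtPrime qh.asIdeal)).comp ψh).Flat by
    let e := IsLocalization.algEquiv qh.asIdeal.primeCompl (Localization.AtPrime qh.asIdeal) Lq
    have he : (e : Localization.AtPrime qh.asIdeal →+* Lq).comp (algebraMap _ (Localization.AtPrime qh.asIdeal)) =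
        algebraMap (CplAway ((I.map (algebraMap A C)).map (algebraMap C D)) (algebraMap C D h)) Lq :=
      RingHom.ext fun x => e.commutes x
    rw [← he, RingHom.comp_assoc]
    exact hF.comp (RingHom.Flat.of_bijective e.bijective)
  refine flat_baseChange I hftC hftD dB hext hlift ?_ h ((I.map (algebraMap A C)).map (algebraMap C D))
    (map_eq_of_forall I (algebraMap C D) fun a => (IsScalarTower.algebraMap_apply A C D a).symm).symm
    ψh ?_ qh hqh
  · intro f ψ hψ Q hQ hQI
    have hψ' : ψ.comp (algebraMap (Localization.Away f) _) =
        (algebraMap (Localization.Away (algebraMap A B f)) _).comp (Localization.awayMap (algebraMap A B) f) :=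
      IsLocalization.ringHom_ext (Submonoid.powers f) (RingHom.ext fun a => by
        simp only [RingHom.comp_apply]
        rw [← IsScalarTower.algebraMap_apply, hψ, awayMap_algebraMap,
          ← IsScalarTower.algebraMap_apply, ← IsScalarTower.algebraMap_apply])
    haveI : IsNoetherianRing (CplAway (I.map (algebraMap A B)) (algebraMap A B f)) := isNoetherianRing_cplAway _ _
    haveI := hQ
    refine flat_at_of_rigFlat ψ _ (fun qf hqf => hAB f ψ hψ' qf hqf) Q fun hle => hQI ?_
    refine le_trans (le_of_eq ?_) hle
    exact (map_eq_map_cplAway (algebraMap A B f) I _ rfl).trans (map_cplAway _ _).symm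
  · intro c
    exact ((congrArg ψh (algebraMap_cplAway _ h c)).trans (DFunLike.congr_fun hψh _)).trans
      ((congrArg (algebraMap (Localization.Away (algebraMap C D h)) _) (awayMap_algebraMap _ h c)).trans
        (algebraMap_cplAway _ (algebraMap C D h) _).symm)


theorem statement [IsNoetherianRing A] [IsAdicComplete I A] {B C : Type u} [CommRing B] [CommRing C]
    [Algebra A B] [Algebra A C] [IsNoetherianRing B] [IsAdicComplete (I.map (algebraMap A B)) B]
    (hft : Algebra.FiniteType A (B ⧸ I.map (algebraMap A B)))
    (hAB : ∀ (f : A) (ψ : CplAway I f →+* CplAway (I.map (algebraMap A B)) (algebraMap A B f)),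
      ψ.comp (algebraMap (Localization.Away f) _) =
        (algebraMap (Localization.Away (algebraMap A B f)) _).comp (Localization.awayMap (algebraMap A B) f) →
      ∀ qf : PrimeSpectrum (CplAway (I.map (algebraMap A B)) (algebraMap A B f)),
        (¬ ((I.map (algebraMap A B)).map (algebraMap B (Localization.Away (algebraMap A B f)))).map
            (algebraMap (Localization.Away (algebraMap A B f)) (CplAway (I.map (algebraMap A B)) (algebraMap A B f))) ≤
            qf.asIdeal ∧
          ∀ y : PrimeSpectrum (CplAway (I.map (algebraMap A B)) (algebraMap A B f)), qf ≤ y →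
            ¬ ((I.map (algebraMap A B)).map (algebraMap B (Localization.Away (algebraMap A B f)))).map
              (algebraMap (Localization.Away (algebraMap A B f)) (CplAway (I.map (algebraMap A B)) (algebraMap A B f))) ≤
              y.asIdeal → y = qf) →
        ((algebraMap _ (Localization.AtPrime qf.asIdeal)).comp ψ).Flat)
    [IsNoetherianRing C] [IsAdicComplete (I.map (algebraMap A C)) C]
    (hftC : Algebra.FiniteType A (C ⧸ I.map (algebraMap A C)))
    (h : C) (ψh : CplAway (I.map (algebraMap A C)) h →+*
      CplAway ((I.map (algebraMap A C)).map (algebraMap C (DT A I B C))) (algebraMap C (DT A I B C) h))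
    (hψh : ψh.comp (algebraMap (Localization.Away h) _) =
      (algebraMap (Localization.Away (algebraMap C (DT A I B C) h)) _).comp (Localization.awayMap (algebraMap C (DT A I B C)) h))
    (qh : PrimeSpectrum (CplAway ((I.map (algebraMap A C)).map (algebraMap C (DT A I B C))) (algebraMap C (DT A I B C) h)))
    (hqh : ¬ (((I.map (algebraMap A C)).map (algebraMap C (DT A I B C))).map
          (algebraMap (DT A I B C) (Localization.Away (algebraMap C (DT A I B C) h)))).map
          (algebraMap _ (CplAway ((I.map (algebraMap A C)).map (algebraMap C (DT A I B C))) (algebraMap C (DT A I B C) h))) ≤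
          qh.asIdeal ∧
      ∀ y : PrimeSpectrum (CplAway ((I.map (algebraMap A C)).map (algebraMap C (DT A I B C))) (algebraMap C (DT A I B C) h)),
        qh ≤ y → ¬ (((I.map (algebraMap A C)).map (algebraMap C (DT A I B C))).map
          (algebraMap (DT A I B C) (Localization.Away (algebraMap C (DT A I B C) h)))).map
          (algebraMap _ (CplAway ((I.map (algebraMap A C)).map (algebraMap C (DT A I B C))) (algebraMap C (DT A I B C) h))) ≤
          y.asIdeal → y = qh) :
    ((algebraMap _ (Localization.AtPrime qh.asIdeal)).comp ψh).Flat := by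
  let IC := I.map (algebraMap A C)
  let Z := C ⊗[A] B
  let D := DT A I B C
  obtain ⟨hND, hftD⟩ := completedTensor_props I (B := B) (C := C) hft hftC
  haveI : IsNoetherianRing D := hND
  have hIZ : I.map (algebraMap A Z) = IC.map (algebraMap C Z) :=
    (map_eq_of_forall I (algebraMap C Z) fun a => (IsScalarTower.algebraMap_apply A C Z a).symm).symm
  let j : Z →ₐ[A] D := IsScalarTower.toAlgHom A Z D
  let dB : B →ₐ[A] D := j.comp Algebra.TensorProduct.includeRight
  refine statement_aux I hft hAB hftC hftD dB ?_ ?_ h ψh hψh qh hqh _
  · intro X iX iA iXc G G' hA hGC hGB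
    have hZ : G.comp (algebraMap Z D) = G'.comp (algebraMap Z D) := RingHom.ext fun z => by
      induction z using TensorProduct.induction_on with
      | zero => simp only [map_zero]
      | add u v hu hv => simp only [map_add, hu, hv]
      | tmul c b =>
        have e : (c ⊗ₜ[A] b : Z) = algebraMap C Z c * (1 ⊗ₜ b) := by
          rw [Algebra.TensorProduct.algebraMap_apply, Algebra.algebraMap_self, RingHom.id_apply,
            Algebra.TensorProduct.tmul_mul_tmul, mul_one, one_mul]
        rw [e, map_mul, map_mul]
        congr 1
        · show G (algebraMap Z D (algebraMap C Z c)) = G' (algebraMap Z D (algebraMap C Z c))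
          rw [← IsScalarTower.algebraMap_apply]
          exact hGC c
        · exact hGB b
    refine cpl_ext (IC.map (algebraMap C Z)) (Ideal.FG.map (IsNoetherian.noetherian IC) _) (I.map (algebraMap A X))
      ?_ fun r => DFunLike.congr_fun hZ r
    refine (congrArg _ hIZ.symm).trans ?_
    exact map_eq_of_forall I _ fun a => by
      rw [RingHom.comp_apply, ← IsScalarTower.algebraMap_apply]; exact hA a
  · intro X iX iA iXc gC gB
    let g : Z →ₐ[A] X := Algebra.TensorProduct.lift gC gB fun _ _ => Commute.all _ _
    obtain ⟨G, hG⟩ := cpl_lift (IC.map (algebraMap C Z)) (I.map (algebraMap A X)) g.toRingHom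
      ((congrArg _ hIZ.symm).trans (map_eq_of_forall I _ fun a => g.commutes a))
    refine ⟨G, fun c => ?_, fun b => ?_⟩
    · rw [IsScalarTower.algebraMap_apply C Z D, hG]
      show g (c ⊗ₜ 1) = gC c
      rw [Algebra.TensorProduct.lift_tmul, map_one, mul_one]
    · show G (algebraMap Z D (1 ⊗ₜ b)) = gB b
      rw [hG]
      show g (1 ⊗ₜ b) = gB b
      rw [Algebra.TensorProduct.lift_tmul, map_one, one_mul]
end Groth.Agent.RigBC7
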