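import Groth.Agent.Lib.RigBC7.Pushout
import Groth.Agent.Lib.RigFlatH7.RigEtaleAux
import Groth.Agent.S8840
import Groth.Agent.S8837
import Groth.Agent.S8829

/-! Rig-flatness of a completed tensor product at a rig-closed point. -/

set_option autoImplicit false
set_option linter.style.haveILetI false
universe u

namespace Groth.Agent.RigBC7

open Groth.Agent.RigFlatH7

variable {A : Type u} [CommRing A] [IsNoetherianRing A] (I : Ideal A) [IsAdicComplete I A]

omit [IsNoetherianRing A] [IsAdicComplete I A] in
theorem map_eq_of_forall {X Y : Type u} [CommRing X] [CommRing Y] [Algebra A X] [Algebra A Y] (g : X →+* Y)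
    (hg : ∀ a, g (algebraMap A X a) = algebraMap A Y a) : (I.map (algebraMap A X)).map g = I.map (algebraMap A Y) :=
  (Ideal.map_map _ _).trans (congrArg (fun f => I.map f) (RingHom.ext hg))

omit [IsAdicComplete I A] in
theorem complete_cplAway {C : Type u} [CommRing C] [Algebra A C] [IsNoetherianRing C] (K : Ideal C)
    (hK : I.map (algebraMap A C) = K) (f : C) : IsAdicComplete (I.map (algebraMap A (CplAway K f))) (CplAway K f) := by
  rw [map_eq_map_cplAway f I K hK]
  exact isAdicComplete_cplAway K f

/-- A prime stays rig-closed in a completed localisation. -/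
theorem rigClosed_map_cplAway {T : Type u} [CommRing T] [IsNoetherianRing T] (K : Ideal T) [IsAdicComplete K T]
    (q : PrimeSpectrum T) (hq : ¬ K ≤ q.asIdeal ∧ ∀ y : PrimeSpectrum T, q ≤ y → ¬ K ≤ y.asIdeal → y = q) (g : T)
    (hg : IsUnit (Ideal.Quotient.mk q.asIdeal g)) :
    ∃ q2 : PrimeSpectrum (CplAway K g), q2.asIdeal = q.asIdeal.map (algebraMap T (CplAway K g)) ∧
      q2.asIdeal.comap (algebraMap T (CplAway K g)) = q.asIdeal ∧
      (¬ K.map (algebraMap T (CplAway K g)) ≤ q2.asIdeal ∧
        ∀ y : PrimeSpectrum (CplAway K g), q2 ≤ y → ¬ K.map (algebraMap T (CplAway K g)) ≤ y.asIdeal → y = q2) := by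
  haveI := q.isPrime
  obtain ⟨hprime, hbij⟩ := Groth.Agent.S8837.result T K q.asIdeal g hg
  have hc : (q.asIdeal.map (algebraMap T (CplAway K g))).comap (algebraMap T (CplAway K g)) = q.asIdeal :=
    le_antisymm (fun z hz => Ideal.Quotient.eq_zero_iff_mem.1 (hbij.1 (by
      rw [map_zero, Ideal.quotientMap_mk]; exact Ideal.Quotient.eq_zero_iff_mem.2 hz))) Ideal.le_comap_map
  refine ⟨⟨_, hprime⟩, rfl, hc, fun h => hq.1 (hc ▸ Ideal.map_le_iff_le_comap.1 h), fun y hy hyK => ?_⟩
  have h1 : PrimeSpectrum.comap (algebraMap T (CplAway K g)) y = q :=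
    hq.2 _ (show q.asIdeal ≤ y.asIdeal.comap _ from hc ▸ Ideal.comap_mono hy) fun h => hyK (Ideal.map_le_iff_le_comap.2 h)
  refine PrimeSpectrum.ext (le_antisymm (fun z hz => ?_) hy)
  obtain ⟨t, ht⟩ := hbij.2 (Ideal.Quotient.mk _ z)
  obtain ⟨t, rfl⟩ := Ideal.Quotient.mk_surjective t
  rw [Ideal.quotientMap_mk, Ideal.Quotient.eq] at ht
  have hty : algebraMap T (CplAway K g) t ∈ y.asIdeal := by
    have := y.asIdeal.add_mem (hy ht) hz
    rwa [sub_add_cancel] at this
  have htq : t ∈ q.asIdeal := by
    have h2 : t ∈ (PrimeSpectrum.comap (algebraMap T (CplAway K g)) y).asIdeal := hty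
    rwa [h1] at h2
  have h3 := (q.asIdeal.map (algebraMap T (CplAway K g))).sub_mem (Ideal.mem_map_of_mem _ htq) ht
  rwa [sub_sub_cancel] at h3

/-- Flatness at a rig-closed point of a completed tensor product, for a rig-flat map. -/
theorem flat_step {B C T : Type u} [CommRing B] [CommRing C] [CommRing T]
    [Algebra A B] [Algebra A C] [Algebra A T] [IsNoetherianRing B] [IsNoetherianRing C] [IsNoetherianRing T]
    [IsAdicComplete (I.map (algebraMap A B)) B] [IsAdicComplete (I.map (algebraMap A C)) C]
    [IsAdicComplete (I.map (algebraMap A T)) T]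
    (hftC : Algebra.FiniteType A (C ⧸ I.map (algebraMap A C)))
    (hftT : Algebra.FiniteType A (T ⧸ I.map (algebraMap A T)))
    (cC : C →ₐ[A] T) (cB : B →ₐ[A] T)
    (hext : ∀ (X : Type u) [CommRing X] [Algebra A X] [IsAdicComplete (I.map (algebraMap A X)) X] (G G' : T →+* X),
      (∀ a, G (algebraMap A T a) = algebraMap A X a) →
      (∀ c, G (cC c) = G' (cC c)) → (∀ b, G (cB b) = G' (cB b)) → G = G')
    (hlift : ∀ (X : Type u) [CommRing X] [Algebra A X] [IsAdicComplete (I.map (algebraMap A X)) X]
      (gC : C →ₐ[A] X) (gB : B →ₐ[A] X), ∃ G : T →+* X, (∀ c, G (cC c) = gC c) ∧ ∀ b, G (cB b) = gB b)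
    (hB : ∀ (f : A) (ψ : CplAway I f →+* CplAway (I.map (algebraMap A B)) (algebraMap A B f)),
      (∀ a, ψ (algebraMap A _ a) = algebraMap A _ a) →
      ∀ Q : Ideal (CplAway (I.map (algebraMap A B)) (algebraMap A B f)), ∀ _ : Q.IsPrime,
        ¬ I.map (algebraMap A (CplAway (I.map (algebraMap A B)) (algebraMap A B f))) ≤ Q →
        ((algebraMap _ (Localization.AtPrime Q)).comp ψ).Flat)
    (q : PrimeSpectrum T) (hq : ¬ I.map (algebraMap A T) ≤ q.asIdeal ∧
      ∀ y : PrimeSpectrum T, q ≤ y → ¬ I.map (algebraMap A T) ≤ y.asIdeal → y = q) :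
    ((algebraMap T (Localization.AtPrime q.asIdeal)).comp cC.toRingHom).Flat := by
  classical
  haveI := q.isPrime
  obtain ⟨f, hfu, hf⟩ := Groth.Agent.S8840.result A I T hftT q hq
  let A2 := CplAway I f
  let IB := I.map (algebraMap A B)
  let IC := I.map (algebraMap A C)
  let IT := I.map (algebraMap A T)
  let B2 := CplAway IB (algebraMap A B f)
  let C2 := CplAway IC (algebraMap A C f)
  let T2 := CplAway IT (algebraMap A T f)
  haveI : IsNoetherianRing A2 := isNoetherianRing_cplAway I f
  haveI : IsNoetherianRing B2 := isNoetherianRing_cplAway IB _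
  haveI : IsNoetherianRing C2 := isNoetherianRing_cplAway IC _
  haveI : IsNoetherianRing T2 := isNoetherianRing_cplAway IT _
  haveI : IsAdicComplete (I.map (algebraMap A A2)) A2 := isAdicComplete_cplAway I f
  haveI cB2 : IsAdicComplete (I.map (algebraMap A B2)) B2 := complete_cplAway I IB rfl _
  haveI cC2 : IsAdicComplete (I.map (algebraMap A C2)) C2 := complete_cplAway I IC rfl _
  haveI cT2 : IsAdicComplete (I.map (algebraMap A T2)) T2 := complete_cplAway I IT rfl _
  have hu : ∀ (X : Type u) [CommRing X] [Algebra A X] [IsNoetherianRing X], IsUnit (algebraMap A (CplAway (I.map (algebraMap A X)) (algebraMap A X f)) f) := by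
    intro X _ _ _
    rw [IsScalarTower.algebraMap_apply A X (CplAway (I.map (algebraMap A X)) (algebraMap A X f))]
    exact isUnit_cplAway _ _
  obtain ⟨ψB, hψB⟩ := cplAway_lift I f (I.map (algebraMap A B2)) (algebraMap A B2) rfl (hu B)
  obtain ⟨ψC, hψC⟩ := cplAway_lift I f (I.map (algebraMap A C2)) (algebraMap A C2) rfl (hu C)
  obtain ⟨ψT, hψT⟩ := cplAway_lift I f (I.map (algebraMap A T2)) (algebraMap A T2) rfl (hu T)
  letI : Algebra A2 B2 := ψB.toAlgebra
  letI : Algebra A2 C2 := ψC.toAlgebra
  letI : Algebra A2 T2 := ψT.toAlgebra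
  haveI : IsScalarTower A A2 B2 := IsScalarTower.of_algebraMap_eq fun a => (hψB a).symm
  haveI : IsScalarTower A A2 C2 := IsScalarTower.of_algebraMap_eq fun a => (hψC a).symm
  haveI : IsScalarTower A A2 T2 := IsScalarTower.of_algebraMap_eq fun a => (hψT a).symm
  -- the maps between the completed localisations
  have hgC : ∀ a, (algebraMap T T2).comp cC.toRingHom (algebraMap A C a) = algebraMap A T2 a := fun a => by
    show algebraMap T T2 (cC (algebraMap A C a)) = _
    rw [AlgHom.commutes, ← IsScalarTower.algebraMap_apply]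
  have hgB : ∀ a, (algebraMap T T2).comp cB.toRingHom (algebraMap A B a) = algebraMap A T2 a := fun a => by
    show algebraMap T T2 (cB (algebraMap A B a)) = _
    rw [AlgHom.commutes, ← IsScalarTower.algebraMap_apply]
  obtain ⟨dC, hdC⟩ := cplAway_lift IC (algebraMap A C f) (I.map (algebraMap A T2)) _ (map_eq_of_forall I _ hgC)
    (by rw [hgC]; exact hu T)
  obtain ⟨dB, hdB⟩ := cplAway_lift IB (algebraMap A B f) (I.map (algebraMap A T2)) _ (map_eq_of_forall I _ hgB)
    (by rw [hgB]; exact hu T)
  have hdCA : ∀ a, dC (algebraMap A C2 a) = algebraMap A T2 a := fun a => by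
    rw [IsScalarTower.algebraMap_apply A C C2, hdC, hgC]
  have hdBA : ∀ a, dB (algebraMap A B2 a) = algebraMap A T2 a := fun a => by
    rw [IsScalarTower.algebraMap_apply A B B2, hdB, hgB]
  have hcC : dC.comp ψC = ψT := cplAway_ext I (IsNoetherian.noetherian _) f (I.map (algebraMap A T2))
    (congrArg (fun g => I.map g) (RingHom.ext fun a => (congrArg dC (hψC a)).trans (hdCA a)))
    fun a => ((congrArg dC (hψC a)).trans (hdCA a)).trans (hψT a).symm
  have hcB : dB.comp ψB = ψT := cplAway_ext I (IsNoetherian.noetherian _) f (I.map (algebraMap A T2))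
    (congrArg (fun g => I.map g) (RingHom.ext fun a => (congrArg dB (hψB a)).trans (hdBA a)))
    fun a => ((congrArg dB (hψB a)).trans (hdBA a)).trans (hψT a).symm
  let cC2' : C2 →ₐ[A2] T2 := { dC with commutes' := fun a => DFunLike.congr_fun hcC a }
  let cB2' : B2 →ₐ[A2] T2 := { dB with commutes' := fun a => DFunLike.congr_fun hcB a }
  let I2 := I.map (algebraMap A A2)
  have eI : ∀ (X : Type u) [CommRing X] [Algebra A X] [Algebra A2 X] [IsScalarTower A A2 X],
      I2.map (algebraMap A2 X) = I.map (algebraMap A X) := fun X _ _ _ _ =>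
    map_eq_of_forall I _ fun a => (IsScalarTower.algebraMap_apply A A2 X a).symm
  haveI : IsAdicComplete (I2.map (algebraMap A2 B2)) B2 := by rw [eI]; exact cB2
  haveI : IsAdicComplete (I2.map (algebraMap A2 C2)) C2 := by rw [eI]; exact cC2
  haveI : IsAdicComplete (I2.map (algebraMap A2 T2)) T2 := by rw [eI]; exact cT2
  have hftC2 : Algebra.FiniteType A2 (C2 ⧸ I2.map (algebraMap A2 C2)) := by
    rw [eI]
    haveI : Algebra.FiniteType A (C2 ⧸ I.map (algebraMap A C2)) := by
      rw [map_eq_map_cplAway (algebraMap A C f) I IC rfl]; exact finiteType_cplAway IC _ A hftC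
    exact Algebra.FiniteType.of_restrictScalars_finiteType A _ _
  have hftT2 : Algebra.FiniteType A2 (T2 ⧸ I2.map (algebraMap A2 T2)) := by
    rw [eI]
    haveI : Algebra.FiniteType A (T2 ⧸ I.map (algebraMap A T2)) := by
      rw [map_eq_map_cplAway (algebraMap A T f) I IT rfl]; exact finiteType_cplAway IT _ A hftT
    exact Algebra.FiniteType.of_restrictScalars_finiteType A _ _
  -- the point
  obtain ⟨q2, hq2e, hq2c, hq2r⟩ := rigClosed_map_cplAway IT q hq (algebraMap A T f) hfu
  have eT : IT.map (algebraMap T T2) = I2.map (algebraMap A2 T2) := by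
    rw [eI]; exact (map_eq_map_cplAway (algebraMap A T f) I IT rfl).symm
  rw [eT] at hq2r
  obtain ⟨-, hp2ne, hp2max⟩ := hf ψT (IsLocalization.ringHom_ext (Submonoid.powers f) (RingHom.ext fun a => by
    show ψT (algebraMap (Localization.Away f) A2 (algebraMap A (Localization.Away f) a)) =
      algebraMap (Localization.Away (algebraMap A T f)) T2 (Localization.awayMap (algebraMap A T) f (algebraMap A _ a))
    rw [← IsScalarTower.algebraMap_apply, hψT, RigFlatH7.awayMap_algebraMap, ← IsScalarTower.algebraMap_apply,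
      ← IsScalarTower.algebraMap_apply]))
  have hp2 : ∀ y : PrimeSpectrum A2, PrimeSpectrum.comap (algebraMap A2 T2) q2 ≤ y → ¬ I2 ≤ y.asIdeal →
      y = PrimeSpectrum.comap (algebraMap A2 T2) q2 := fun y hy hyI => by
    refine PrimeSpectrum.ext ((hp2max y (hq2e ▸ hy) hyI).trans ?_)
    show _ = q2.asIdeal.comap ψT
    rw [hq2e]
  haveI hfin : Module.Finite A2 (T2 ⧸ q2.asIdeal) := by
    have h12 := (Groth.Agent.S8829.result A2 I2 T2 hftT2 q2 hq2r).out 1 2
    exact h12.1 ⟨fun h => hq2r.1 (Ideal.map_le_iff_le_comap.2 h), hp2⟩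
  haveI : Algebra.IsIntegral A2 (T2 ⧸ q2.asIdeal) := @Algebra.IsIntegral.of_finite A2 (T2 ⧸ q2.asIdeal) _ _ _ hfin
  have hflat2 : ((algebraMap T2 (Localization.AtPrime q2.asIdeal)).comp cC2'.toRingHom).Flat := by
    refine flat_completedTensor (A := A2) (I := I2) hftC2 cC2' cB2' (fun G hC hB' => ?_)
      (fun X iX iA2X iXc gC gB => ?_) (fun Q hQ hQI => ?_) q2 hq2r.1 hp2
    · have hT : G.comp (algebraMap T T2) = algebraMap T T2 := hext T2 _ _ (fun a => by
          show G (algebraMap T T2 (algebraMap A T a)) = algebraMap A T2 a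
          rw [← IsScalarTower.algebraMap_apply, ← hdCA]
          exact hC _)
        (fun c => by
          show G (algebraMap T T2 (cC c)) = algebraMap T T2 (cC c)
          have := hC (algebraMap C C2 c)
          rwa [show cC2' (algebraMap C C2 c) = algebraMap T T2 (cC c) from hdC c] at this)
        (fun c => by
          show G (algebraMap T T2 (cB c)) = algebraMap T T2 (cB c)
          have := hB' (algebraMap B B2 c)
          rwa [show cB2' (algebraMap B B2 c) = algebraMap T T2 (cB c) from hdB c] at this)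
      refine cplAway_ext IT (IsNoetherian.noetherian _) _ (I.map (algebraMap A T2)) ?_ fun a => DFunLike.congr_fun hT a
      rw [hT]
      exact map_eq_of_forall I _ fun a => (IsScalarTower.algebraMap_apply A T T2 a).symm
    · letI : Algebra A X := ((algebraMap A2 X).comp (algebraMap A A2)).toAlgebra
      haveI : IsScalarTower A A2 X := IsScalarTower.of_algebraMap_eq fun _ => rfl
      haveI : IsAdicComplete (I.map (algebraMap A X)) X := eI X ▸ iXc
      let gC1 : C →ₐ[A] X := (gC.restrictScalars A).comp (IsScalarTower.toAlgHom A C C2)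
      let gB1 : B →ₐ[A] X := (gB.restrictScalars A).comp (IsScalarTower.toAlgHom A B B2)
      obtain ⟨G, hGC, hGB⟩ := hlift X gC1 gB1
      have hGA : ∀ a, G (algebraMap A T a) = algebraMap A X a := fun a => by
        rw [← cC.commutes, hGC, AlgHom.commutes]
      have hGu : IsUnit (G (algebraMap A T f)) := by
        rw [hGA, IsScalarTower.algebraMap_apply A A2 X]
        exact (isUnit_cplAway I f).map _
      obtain ⟨G2, hG2⟩ := cplAway_lift IT (algebraMap A T f) (I.map (algebraMap A X)) G (map_eq_of_forall I G hGA) hGu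
      refine ⟨G2, fun c => ?_, fun c => ?_⟩
      · refine DFunLike.congr_fun (cplAway_ext IC (IsNoetherian.noetherian _) _ (I.map (algebraMap A X))
          (G := G2.comp dC) (G' := gC.toRingHom) ?_ fun a => ?_) c
        · exact map_eq_of_forall I _ fun a => by
            show G2 (dC (algebraMap C C2 (algebraMap A C a))) = algebraMap A X a
            rw [hdC]
            show G2 (algebraMap T T2 (cC (algebraMap A C a))) = _
            rw [AlgHom.commutes, hG2, hGA]
        · show G2 (dC (algebraMap C C2 a)) = gC (algebraMap C C2 a)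
          rw [hdC]
          exact (hG2 _).trans (hGC a)
      · refine DFunLike.congr_fun (cplAway_ext IB (IsNoetherian.noetherian _) _ (I.map (algebraMap A X))
          (G := G2.comp dB) (G' := gB.toRingHom) ?_ fun a => ?_) c
        · exact map_eq_of_forall I _ fun a => by
            show G2 (dB (algebraMap B B2 (algebraMap A B a))) = algebraMap A X a
            rw [hdB]
            show G2 (algebraMap T T2 (cB (algebraMap A B a))) = _
            rw [AlgHom.commutes, hG2, hGA]
        · show G2 (dB (algebraMap B B2 a)) = gB (algebraMap B B2 a)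
          rw [hdB]
          exact (hG2 _).trans (hGB a)
    · exact hB f ψB hψB Q hQ (eI B2 ▸ hQI)
  haveI := q2.isPrime
  refine flat_descend (algebraMap C C2) (algebraMap T T2) cC.toRingHom dC ?_ ?_ (fun r => hdC r) q.asIdeal
    q2.asIdeal hq2c.symm hflat2
  · exact RingHom.flat_algebraMap_iff.2 (flat_cplAway IC _)
  · exact RingHom.flat_algebraMap_iff.2 (flat_cplAway IT _)

end Groth.Agent.RigBC7
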